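import Mathlib

/-!
# Counts in `A₆` and `A₅` (helper751)
-/

set_option autoImplicit false

namespace Cfsg.Agent.H751.EPX.A6Dec

theorem inv6 : (Finset.univ.filter fun a : alternatingGroup (Fin 6) => a * a = 1 ∧ a ≠ 1).card = 45 := by
  decide +kernel

theorem three6 : (Finset.univ.filter fun a : alternatingGroup (Fin 6) => a * a * a = 1 ∧ a ≠ 1).card = 80 := by
  decide +kernel

theorem three5 : (Finset.univ.filter fun a : alternatingGroup (Fin 5) => a * a * a = 1 ∧ a ≠ 1).card = 20 := by
  decide +kernel

end Cfsg.Agent.H751.EPX.A6Dec
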