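import Mathlib

/-!
# Commuting involutions of `A₆` (helper751)
-/

set_option autoImplicit false

namespace Cfsg.Agent.H751.EPX.A6Dec

theorem comm6 : ∀ a : alternatingGroup (Fin 6), a * a = 1 → a ≠ 1 → (Finset.univ.filter fun b :
    alternatingGroup (Fin 6) => b * b = 1 ∧ b ≠ 1 ∧ b ≠ a ∧ a * b = b * a).card = 4 := by
  decide +kernel

end Cfsg.Agent.H751.EPX.A6Dec
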